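import Cfsg.Agent.EqLemmas

/-!
The Chermak-Delgado lattice (members = `Cfsg.IsCentralizerLarge`) and centrally large subgroups.

* `card_prod_mul`: `|H K| |H ∩ K| = |H| |K|`; `sup_of_card`.
* `centralizerLarge_sup`, `centralizerLarge_inf`, `centralizerLarge_centralizer`, `centralizer_centralizer_eq`,
  `coe_sup_eq_mul`, `centralizer_inf_eq`.
* `maxCentralProduct_eq`, `centrallyLarge_iff`, `CL.sup`, `exists_minimal`, `centrallyLarge_sSup`.
* max-order abelian subgroups against a centrally large one: `maxAbelian_centralizer`, `sup_maxAbelian`.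
* minimal centrally large subgroups: `minimal_inf_sup`, `minimal_card_eq`, `minimal_inf_sup_centralizer`.
-/

set_option autoImplicit false
open scoped Pointwise

namespace Cfsg.Agent.CentrallyLarge

variable {P : Type*} [Group P] [Finite P]

theorem card_prod_mul (H K : Subgroup P) :
    Nat.card ↥((H : Set P) * (K : Set P)) * Nat.card ↥(H ⊓ K) = Nat.card H * Nat.card K := by
  rw [Subgroup.card_mul_eq_card_subgroup_mul_card_quotient K (H : Set P)]
  have h1 : Nat.card ↥((QuotientGroup.mk : P → P ⧸ K) '' (H : Set P)) = K.relIndex H := by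
    let f : ↥H ⧸ K.subgroupOf H → P ⧸ K := Quotient.map' (fun x => (x : P)) (by
      intro a b hab
      rw [QuotientGroup.leftRel_apply] at hab ⊢
      exact hab)
    have hf : Function.Injective f := by
      intro a b
      induction a using QuotientGroup.induction_on
      induction b using QuotientGroup.induction_on
      intro h
      exact QuotientGroup.eq.mpr (QuotientGroup.eq (s := K) |>.mp h)
    have hr : Set.range f = (QuotientGroup.mk : P → P ⧸ K) '' (H : Set P) := by
      ext q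
      constructor
      · rintro ⟨a, rfl⟩
        induction a using QuotientGroup.induction_on with
        | H a => exact ⟨a, a.2, rfl⟩
      · rintro ⟨a, ha, rfl⟩
        exact ⟨QuotientGroup.mk (⟨a, ha⟩ : ↥H), rfl⟩
    rw [← hr, Nat.card_range_of_injective hf]
    rfl
  rw [h1, ← Subgroup.relIndex_bot_left H, ← Subgroup.relIndex_mul_relIndex ⊥ (H ⊓ K) H bot_le inf_le_left,
    Subgroup.inf_relIndex_left, Subgroup.relIndex_bot_left]
  ring

theorem prod_subset_sup (H K : Subgroup P) : (H : Set P) * (K : Set P) ⊆ ((H ⊔ K : Subgroup P) : Set P) := by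
  rintro _ ⟨a, ha, b, hb, rfl⟩
  exact Subgroup.mul_mem _ (Subgroup.mem_sup_left ha) (Subgroup.mem_sup_right hb)

theorem card_prod_le_sup (H K : Subgroup P) :
    Nat.card ↥((H : Set P) * (K : Set P)) ≤ Nat.card ↥(H ⊔ K) :=
  Nat.card_mono (Set.toFinite _) (prod_subset_sup H K)

theorem sup_of_card (H K : Subgroup P)
    (h : Nat.card ↥(H ⊔ K) * Nat.card ↥(H ⊓ K) ≤ Nat.card H * Nat.card K) :
    ((H ⊔ K : Subgroup P) : Set P) = (H : Set P) * (K : Set P) := by
  refine (Set.eq_of_subset_of_ncard_le (prod_subset_sup H K) ?_ (Set.toFinite _)).symm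
  rw [← card_prod_mul H K] at h
  exact Nat.le_of_mul_le_mul_right h Nat.card_pos

theorem card_mul_card_le (H K : Subgroup P) :
    Nat.card H * Nat.card K ≤ Nat.card ↥(H ⊔ K) * Nat.card ↥(H ⊓ K) := by
  rw [← card_prod_mul H K]
  exact Nat.mul_le_mul_right _ (card_prod_le_sup H K)

theorem eq_of_card (H K : Subgroup P) (h1 : H ≤ K) (h2 : Nat.card K ≤ Nat.card H) : H = K :=
  Subgroup.eq_of_le_of_card_ge h1 h2

/-! ### centralisers -/

theorem centralizer_sup (H K : Subgroup P) :
    Subgroup.centralizer ((H ⊔ K : Subgroup P) : Set P) =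
      Subgroup.centralizer (H : Set P) ⊓ Subgroup.centralizer (K : Set P) := by
  apply le_antisymm
  · exact le_inf (Subgroup.centralizer_le (SetLike.coe_subset_coe.mpr le_sup_left))
      (Subgroup.centralizer_le (SetLike.coe_subset_coe.mpr le_sup_right))
  · rw [Subgroup.le_centralizer_iff]
    exact sup_le (Subgroup.le_centralizer_iff.mp inf_le_left) (Subgroup.le_centralizer_iff.mp inf_le_right)

theorem sup_centralizer_le_inf (H K : Subgroup P) :
    Subgroup.centralizer (H : Set P) ⊔ Subgroup.centralizer (K : Set P) ≤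
      Subgroup.centralizer ((H ⊓ K : Subgroup P) : Set P) :=
  sup_le (Subgroup.centralizer_le (SetLike.coe_subset_coe.mpr inf_le_left))
    (Subgroup.centralizer_le (SetLike.coe_subset_coe.mpr inf_le_right))

theorem abelian_iff (A : Subgroup P) : IsMulCommutative A ↔ A ≤ Subgroup.centralizer (A : Set P) := by
  constructor
  · intro h a ha b hb
    exact congrArg Subtype.val (mul_comm' (⟨b, hb⟩ : A) ⟨a, ha⟩)
  · intro h
    exact ⟨⟨fun a b => Subtype.ext (h b.2 a a.2)⟩⟩

theorem abelian_sup {H K : Subgroup P} (hH : H ≤ Subgroup.centralizer (H : Set P))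
    (hK : K ≤ Subgroup.centralizer (K : Set P)) (hHK : K ≤ Subgroup.centralizer (H : Set P)) :
    H ⊔ K ≤ Subgroup.centralizer ((H ⊔ K : Subgroup P) : Set P) := by
  rw [centralizer_sup]
  exact sup_le (le_inf hH (Subgroup.le_centralizer_iff.mp hHK)) (le_inf hHK hK)

/-! ### the largest measure -/

theorem measure_le (R : Subgroup P) :
    Nat.card ↥R * Nat.card ↥(Subgroup.centralizer (R : Set P)) ≤ Cfsg.maxCentralizerProduct P := by
  refine le_csSup ?_ ⟨R, rfl⟩
  exact ((Set.finite_range fun R : Subgroup P =>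
    Nat.card ↥R * Nat.card ↥(Subgroup.centralizer (R : Set P))).subset (by
      rintro k ⟨R, rfl⟩; exact ⟨R, rfl⟩)).bddAbove

theorem exists_centralizerLarge : ∃ R : Subgroup P, Cfsg.IsCentralizerLarge R :=
  Nat.sSup_mem (s := {k : ℕ | ∃ R : Subgroup P, Nat.card ↥R * Nat.card ↥(Subgroup.centralizer (R : Set P)) = k})
    ⟨_, ⊥, rfl⟩ (((Set.finite_range fun R : Subgroup P =>
      Nat.card ↥R * Nat.card ↥(Subgroup.centralizer (R : Set P))).subset (by
        rintro k ⟨R, rfl⟩; exact ⟨R, rfl⟩)).bddAbove)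

theorem centralizerLarge_of_le {R : Subgroup P}
    (h : Cfsg.maxCentralizerProduct P ≤ Nat.card ↥R * Nat.card ↥(Subgroup.centralizer (R : Set P))) :
    Cfsg.IsCentralizerLarge R :=
  le_antisymm (measure_le R) h

variable {Q R : Subgroup P}

theorem lattice (hQ : Cfsg.IsCentralizerLarge Q) (hR : Cfsg.IsCentralizerLarge R) :
    Cfsg.IsCentralizerLarge (Q ⊔ R) ∧ Cfsg.IsCentralizerLarge (Q ⊓ R) ∧
    ((Q ⊔ R : Subgroup P) : Set P) = (Q : Set P) * (R : Set P) ∧
    ((Subgroup.centralizer (Q : Set P) ⊔ Subgroup.centralizer (R : Set P) : Subgroup P) : Set P) =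
      (Subgroup.centralizer (Q : Set P) : Set P) * (Subgroup.centralizer (R : Set P) : Set P) ∧
    Subgroup.centralizer ((Q ⊓ R : Subgroup P) : Set P) =
      Subgroup.centralizer (Q : Set P) ⊔ Subgroup.centralizer (R : Set P) := by
  set M := Cfsg.maxCentralizerProduct P
  set CQ := Subgroup.centralizer (Q : Set P) with hCQ
  set CR := Subgroup.centralizer (R : Set P) with hCR
  set a := Nat.card ↥(Q ⊔ R)
  set b := Nat.card ↥(Q ⊓ R)
  set c := Nat.card ↥(Subgroup.centralizer ((Q ⊓ R : Subgroup P) : Set P))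
  set d := Nat.card ↥(CQ ⊓ CR)
  set e := Nat.card ↥(CQ ⊔ CR)
  have had : a * d ≤ M := by
    have h := measure_le (Q ⊔ R)
    rwa [centralizer_sup] at h
  have hbc : b * c ≤ M := measure_le (Q ⊓ R)
  have hec : e ≤ c := Subgroup.card_le_of_le (sup_centralizer_le_inf Q R)
  have h1 := card_mul_card_le Q R
  have h2 := card_mul_card_le CQ CR
  have hMM : M * M = (Nat.card Q * Nat.card R) * (Nat.card CQ * Nat.card CR) := by
    calc M * M = (Nat.card Q * Nat.card CQ) * (Nat.card R * Nat.card CR) :=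
          congrArg₂ (· * ·) hQ.symm hR.symm
      _ = _ := by ring
  have h3 : M * M ≤ (a * d) * (b * e) := by
    rw [hMM]
    calc _ ≤ (a * b) * (e * d) := Nat.mul_le_mul h1 h2
      _ = _ := by ring
  have hbe : b * e ≤ M := le_trans (Nat.mul_le_mul_left b hec) hbc
  have hM0 : 0 < M := lt_of_lt_of_le (Nat.mul_pos Nat.card_pos Nat.card_pos) (measure_le (⊥ : Subgroup P))
  have had' : a * d = M := le_antisymm had (Nat.le_of_mul_le_mul_right
    (h3.trans (Nat.mul_le_mul_left (a * d) hbe)) hM0)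
  have hbe' : b * e = M := le_antisymm hbe (Nat.le_of_mul_le_mul_left
    (h3.trans (Nat.mul_le_mul_right (b * e) had)) hM0)
  have hce : c ≤ e := Nat.le_of_mul_le_mul_left (hbe' ▸ hbc) (show 0 < b from Nat.card_pos)
  have hcent := (eq_of_card _ _ (sup_centralizer_le_inf Q R) hce).symm
  have hge : (a * b) * (e * d) = M * M := by
    conv_rhs => arg 1; rw [← had']
    conv_rhs => arg 2; rw [← hbe']
    ring
  refine ⟨?_, ?_, ?_, ?_, hcent⟩
  · apply centralizerLarge_of_le
    rw [centralizer_sup]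
    exact had'.ge
  · apply centralizerLarge_of_le
    rw [hcent]
    exact hbe'.ge
  · apply sup_of_card
    have h4 : (a * b) * (e * d) ≤ (Nat.card Q * Nat.card R) * (e * d) := by
      rw [hge, hMM]; exact Nat.mul_le_mul_left _ h2
    exact Nat.le_of_mul_le_mul_right h4 (Nat.mul_pos Nat.card_pos Nat.card_pos)
  · apply sup_of_card
    have h4 : (a * b) * (e * d) ≤ (a * b) * (Nat.card CQ * Nat.card CR) := by
      rw [hge, hMM]; exact Nat.mul_le_mul_right _ h1
    exact Nat.le_of_mul_le_mul_left h4 (Nat.mul_pos Nat.card_pos Nat.card_pos)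

theorem centralizerLarge_sup (hQ : Cfsg.IsCentralizerLarge Q) (hR : Cfsg.IsCentralizerLarge R) :
    Cfsg.IsCentralizerLarge (Q ⊔ R) := (lattice hQ hR).1

theorem centralizerLarge_inf (hQ : Cfsg.IsCentralizerLarge Q) (hR : Cfsg.IsCentralizerLarge R) :
    Cfsg.IsCentralizerLarge (Q ⊓ R) := (lattice hQ hR).2.1

theorem coe_sup_eq_mul (hQ : Cfsg.IsCentralizerLarge Q) (hR : Cfsg.IsCentralizerLarge R) :
    ((Q ⊔ R : Subgroup P) : Set P) = (Q : Set P) * (R : Set P) := (lattice hQ hR).2.2.1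

theorem centralizer_inf_eq (hQ : Cfsg.IsCentralizerLarge Q) (hR : Cfsg.IsCentralizerLarge R) :
    Subgroup.centralizer ((Q ⊓ R : Subgroup P) : Set P) =
      Subgroup.centralizer (Q : Set P) ⊔ Subgroup.centralizer (R : Set P) := (lattice hQ hR).2.2.2.2

theorem centralizer_centralizer_eq (hQ : Cfsg.IsCentralizerLarge Q) :
    Subgroup.centralizer ((Subgroup.centralizer (Q : Set P) : Subgroup P) : Set P) = Q := by
  refine (eq_of_card _ _ (Subgroup.le_centralizer_iff.mp le_rfl) ?_).symm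
  refine Nat.le_of_mul_le_mul_right ?_ (Nat.card_pos (α := ↥(Subgroup.centralizer (Q : Set P))))
  calc _ = Nat.card ↥(Subgroup.centralizer (Q : Set P)) *
        Nat.card ↥(Subgroup.centralizer ((Subgroup.centralizer (Q : Set P) : Subgroup P) : Set P)) := mul_comm _ _
    _ ≤ _ := measure_le _
    _ = _ := hQ.symm

theorem centralizerLarge_centralizer (hQ : Cfsg.IsCentralizerLarge Q) :
    Cfsg.IsCentralizerLarge (Subgroup.centralizer (Q : Set P)) := by
  apply centralizerLarge_of_le
  rw [centralizer_centralizer_eq hQ, mul_comm]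
  exact hQ.ge

/-! ### centrally large subgroups -/

theorem card_center (R : Subgroup P) :
    Nat.card ↥(Subgroup.center ↥R) = Nat.card ↥(R ⊓ Subgroup.centralizer (R : Set P)) := by
  have h : (Subgroup.center ↥R).map R.subtype = R ⊓ Subgroup.centralizer (R : Set P) := by
    ext x
    constructor
    · rintro ⟨y, hy, rfl⟩
      exact ⟨y.2, fun h hh => congrArg Subtype.val (Subgroup.mem_center_iff.mp hy ⟨h, hh⟩)⟩
    · rintro ⟨h1, h2⟩
      exact ⟨⟨x, h1⟩, Subgroup.mem_center_iff.mpr fun g => Subtype.ext (h2 g g.2), rfl⟩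
  rw [← h]
  exact (Nat.card_congr ((Subgroup.center ↥R).equivMapOfInjective R.subtype R.subtype_injective).toEquiv)

theorem central_measure_le (R : Subgroup P) :
    Nat.card ↥R * Nat.card ↥(Subgroup.center ↥R) ≤ Cfsg.maxCentralProduct P := by
  refine le_csSup ?_ ⟨R, rfl⟩
  exact ((Set.finite_range fun R : Subgroup P =>
    Nat.card ↥R * Nat.card ↥(Subgroup.center ↥R)).subset (by
      rintro k ⟨R, rfl⟩; exact ⟨R, rfl⟩)).bddAbove

theorem maxCentralProduct_eq : Cfsg.maxCentralProduct P = Cfsg.maxCentralizerProduct P := by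
  apply le_antisymm
  · refine csSup_le ⟨_, ⊥, rfl⟩ ?_
    rintro k ⟨R, rfl⟩
    refine le_trans ?_ (measure_le R)
    rw [card_center]
    exact Nat.mul_le_mul_left _ (Subgroup.card_le_of_le inf_le_right)
  · obtain ⟨R, hR⟩ := exists_centralizerLarge (P := P)
    set C := Subgroup.centralizer (R : Set P) with hC
    refine le_trans ?_ (central_measure_le (R ⊔ C))
    rw [card_center, centralizer_sup]
    calc Cfsg.maxCentralizerProduct P = Nat.card R * Nat.card C := hR.symm
      _ ≤ Nat.card ↥(R ⊔ C) * Nat.card ↥(R ⊓ C) := card_mul_card_le R C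
      _ ≤ _ := Nat.mul_le_mul_left _ (Subgroup.card_le_of_le
          (le_inf (inf_le_left.trans le_sup_left)
            (le_inf inf_le_right (inf_le_left.trans (Subgroup.le_centralizer_iff.mp le_rfl)))))

theorem centrallyLarge_iff :
    Cfsg.IsCentrallyLarge R ↔ Cfsg.IsCentralizerLarge R ∧ Subgroup.centralizer (R : Set P) ≤ R := by
  unfold Cfsg.IsCentrallyLarge Cfsg.IsCentralizerLarge
  rw [maxCentralProduct_eq, card_center]
  constructor
  · intro h
    have h1 : Nat.card ↥(Subgroup.centralizer (R : Set P)) ≤ Nat.card ↥(R ⊓ Subgroup.centralizer (R : Set P)) :=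
      Nat.le_of_mul_le_mul_left (h ▸ measure_le R) (show 0 < Nat.card R from Nat.card_pos)
    have h2 := eq_of_card (R ⊓ Subgroup.centralizer (R : Set P)) _ inf_le_right h1
    exact ⟨h2 ▸ h, h2 ▸ inf_le_left⟩
  · rintro ⟨h, h'⟩
    rwa [inf_eq_right.mpr h']

theorem CL.large (h : Cfsg.IsCentrallyLarge R) : Cfsg.IsCentralizerLarge R := (centrallyLarge_iff.mp h).1

theorem CL.le (h : Cfsg.IsCentrallyLarge R) : Subgroup.centralizer (R : Set P) ≤ R := (centrallyLarge_iff.mp h).2

theorem CL.sup (hQ : Cfsg.IsCentrallyLarge Q) (hR : Cfsg.IsCentrallyLarge R) :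
    Cfsg.IsCentrallyLarge (Q ⊔ R) :=
  centrallyLarge_iff.mpr ⟨centralizerLarge_sup (CL.large hQ) (CL.large hR),
    centralizer_sup Q R ▸ inf_le_left.trans ((CL.le hQ).trans le_sup_left)⟩

theorem exists_centrallyLarge : ∃ R : Subgroup P, Cfsg.IsCentrallyLarge R := by
  obtain ⟨R, hR⟩ := exists_centralizerLarge (P := P)
  refine ⟨R ⊔ Subgroup.centralizer (R : Set P),
    centrallyLarge_iff.mpr ⟨centralizerLarge_sup hR (centralizerLarge_centralizer hR), ?_⟩⟩
  rw [centralizer_sup]
  exact inf_le_left.trans le_sup_right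

theorem exists_minimal_le (hR : Cfsg.IsCentrallyLarge R) :
    ∃ Q : Subgroup P, Cfsg.IsMinimalCentrallyLarge Q ∧ Q ≤ R := by
  obtain ⟨Q, hQ, hmin⟩ := (Set.toFinite {Q : Subgroup P | Cfsg.IsCentrallyLarge Q}).exists_le_minimal hR
  exact ⟨Q, ⟨hmin.1, fun R' hle hR' => le_antisymm hle (hmin.2 hR' hle)⟩, hQ⟩

theorem exists_minimal : ∃ Q : Subgroup P, Cfsg.IsMinimalCentrallyLarge Q := by
  obtain ⟨R, hR⟩ := exists_centrallyLarge (P := P)
  obtain ⟨Q, hQ, -⟩ := exists_minimal_le hR
  exact ⟨Q, hQ⟩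

theorem centrallyLarge_sSup {s : Set (Subgroup P)} (hs : s.Nonempty)
    (h : ∀ R ∈ s, Cfsg.IsCentrallyLarge R) : Cfsg.IsCentrallyLarge (sSup s) := by
  obtain ⟨R₀, hR₀⟩ := hs
  obtain ⟨X, hX, hmax⟩ := (Set.toFinite {X : Subgroup P | Cfsg.IsCentrallyLarge X ∧ X ≤ sSup s}).exists_le_maximal
    (show R₀ ∈ _ from ⟨h R₀ hR₀, le_sSup hR₀⟩)
  have : X = sSup s := le_antisymm hmax.1.2 (sSup_le fun R hR =>
    le_sup_right.trans (hmax.2 ⟨CL.sup hmax.1.1 (h R hR), sup_le hmax.1.2 (le_sSup hR)⟩ le_sup_left))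
  exact this ▸ hmax.1.1

theorem le_centrallyLargeJoin (hR : Cfsg.IsCentrallyLarge R) : R ≤ Cfsg.centrallyLargeJoin P := le_sSup hR

theorem centrallyLarge_centrallyLargeJoin : Cfsg.IsCentrallyLarge (Cfsg.centrallyLargeJoin P) :=
  centrallyLarge_sSup exists_centrallyLarge fun _ h => h

theorem centrallyLarge_minimalJoin : Cfsg.IsCentrallyLarge (Cfsg.minimalCentrallyLargeJoin P) :=
  centrallyLarge_sSup exists_minimal fun _ h => h.1

/-! ### abelian subgroups of largest order -/

variable {A : Subgroup P}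

theorem maxAbelian_le_centralizer (hA : A ∈ Cfsg.maxAbelianSubgroups P) :
    A ≤ Subgroup.centralizer (A : Set P) := (abelian_iff A).mp hA.1

theorem maxAbelian_centralizer (hA : A ∈ Cfsg.maxAbelianSubgroups P) :
    Subgroup.centralizer (A : Set P) = A := by
  refine le_antisymm ?_ (maxAbelian_le_centralizer hA)
  intro x hx
  have h1 : A ⊔ Subgroup.zpowers x ≤ Subgroup.centralizer ((A ⊔ Subgroup.zpowers x : Subgroup P) : Set P) :=
    abelian_sup (maxAbelian_le_centralizer hA) ((abelian_iff _).mp inferInstance) (Subgroup.zpowers_le.mpr hx)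
  have h2 := eq_of_card A _ le_sup_left (hA.2 _ ((abelian_iff _).mpr h1))
  exact h2.ge (Subgroup.mem_sup_right (Subgroup.mem_zpowers x))

theorem exists_maxAbelian : (Cfsg.maxAbelianSubgroups P).Nonempty := by
  obtain ⟨A, hA, hmax⟩ := Set.exists_max_image {B : Subgroup P | IsMulCommutative B}
    (fun B => Nat.card ↥B) (Set.toFinite _) ⟨⊥, ⟨⟨fun a b => Subsingleton.elim _ _⟩⟩⟩
  exact ⟨A, hA, hmax⟩

/-- A centrally large subgroup against an abelian subgroup of largest order. -/
theorem sup_maxAbelian (hQ : Cfsg.IsCentrallyLarge Q) (hA : A ∈ Cfsg.maxAbelianSubgroups P) :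
    Cfsg.IsCentrallyLarge (Q ⊔ A) ∧ ((Q ⊔ A : Subgroup P) : Set P) = (Q : Set P) * (A : Set P) ∧
    (((A ⊓ Q) ⊔ Subgroup.centralizer (Q : Set P) : Subgroup P) ∈ Cfsg.maxAbelianSubgroups P) ∧
    (((A ⊓ Q) ⊔ Subgroup.centralizer (Q : Set P) : Subgroup P) : Set P) =
      ((A ⊓ Q : Subgroup P) : Set P) * (Subgroup.centralizer (Q : Set P) : Set P) := by
  set Z := Subgroup.centralizer (Q : Set P) with hZ
  have hZQ : Z ≤ Q := CL.le hQ
  have hCX : Subgroup.centralizer ((Q ⊔ A : Subgroup P) : Set P) = Z ⊓ A := by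
    rw [centralizer_sup, maxAbelian_centralizer hA]
  set B := (A ⊓ Q) ⊔ Z with hB
  have hBab : B ≤ Subgroup.centralizer (B : Set P) := by
    refine abelian_sup ?_ ?_ ?_
    · exact inf_le_left.trans ((maxAbelian_le_centralizer hA).trans
        (Subgroup.centralizer_le (SetLike.coe_subset_coe.mpr inf_le_left)))
    · exact hZQ.trans (Subgroup.le_centralizer_iff.mp le_rfl)
    · exact Subgroup.centralizer_le (SetLike.coe_subset_coe.mpr inf_le_right)
  have hBA : Nat.card B ≤ Nat.card A := hA.2 B ((abelian_iff B).mpr hBab)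
  have hinf : A ⊓ Q ⊓ Z = Z ⊓ A := by
    rw [inf_assoc, inf_eq_right.mpr hZQ, inf_comm]
  have h1 : Nat.card ↥(A ⊓ Q) * Nat.card Z ≤ Nat.card A * Nat.card ↥(Z ⊓ A) := by
    refine (card_mul_card_le _ _).trans ?_
    rw [hinf]
    exact Nat.mul_le_mul_right _ hBA
  have h2 := card_mul_card_le Q A
  rw [inf_comm Q A] at h2
  set a := Nat.card ↥(Q ⊔ A)
  set k := Nat.card ↥(A ⊓ Q)
  set z := Nat.card ↥(Z ⊓ A)
  have hM : Nat.card Q * Nat.card Z = Cfsg.maxCentralizerProduct P := CL.large hQ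
  have haz : a * z ≤ Cfsg.maxCentralizerProduct P := by
    have h := measure_le (Q ⊔ A)
    rwa [hCX] at h
  have hk : 0 < k := Nat.card_pos
  have hz : 0 < z := Nat.card_pos
  have h3 : Nat.card Q * Nat.card Z * k ≤ Nat.card Q * Nat.card A * z := by
    calc _ = Nat.card Q * (k * Nat.card Z) := by ring
      _ ≤ Nat.card Q * (Nat.card A * z) := Nat.mul_le_mul_left _ h1
      _ = _ := by ring
  have h4 : Nat.card Q * Nat.card A * z ≤ a * z * k := by
    calc _ ≤ a * k * z := Nat.mul_le_mul_right _ h2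
      _ = _ := by ring
  have hlarge : Cfsg.IsCentralizerLarge (Q ⊔ A) := by
    apply centralizerLarge_of_le
    rw [hCX, ← hM]
    exact Nat.le_of_mul_le_mul_right (h3.trans h4) hk
  refine ⟨centrallyLarge_iff.mpr ⟨hlarge, hCX ▸ inf_le_left.trans (hZQ.trans le_sup_left)⟩, ?_, ?_, ?_⟩
  · apply sup_of_card
    rw [inf_comm Q A]
    refine Nat.le_of_mul_le_mul_right ?_ hz
    calc a * k * z = a * z * k := by ring
      _ ≤ Nat.card Q * Nat.card Z * k := Nat.mul_le_mul_right _ (hM ▸ haz)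
      _ ≤ _ := h3
  · refine ⟨(abelian_iff B).mpr hBab, fun D hD => (hA.2 D hD).trans ?_⟩
    have h6 : Nat.card A * z ≤ k * Nat.card Z := by
      refine Nat.le_of_mul_le_mul_left ?_ (show 0 < Nat.card Q from Nat.card_pos)
      calc Nat.card Q * (Nat.card A * z) = Nat.card Q * Nat.card A * z := by ring
        _ ≤ a * z * k := h4
        _ ≤ Nat.card Q * Nat.card Z * k := Nat.mul_le_mul_right _ (hM ▸ haz)
        _ = _ := by ring
    refine Nat.le_of_mul_le_mul_right ?_ hz
    refine h6.trans ((card_mul_card_le _ _).trans ?_)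
    rw [hinf]
  · apply sup_of_card
    rw [hinf]
    calc Nat.card B * z ≤ Nat.card A * z := Nat.mul_le_mul_right _ hBA
      _ ≤ k * Nat.card Z := by
        refine Nat.le_of_mul_le_mul_left ?_ (show 0 < Nat.card Q from Nat.card_pos)
        calc Nat.card Q * (Nat.card A * z) = Nat.card Q * Nat.card A * z := by ring
          _ ≤ a * z * k := h4
          _ ≤ Nat.card Q * Nat.card Z * k := Nat.mul_le_mul_right _ (hM ▸ haz)
          _ = _ := by ring

/-! ### minimal centrally large subgroups -/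

theorem minimal_inf_sup (hQ : Cfsg.IsMinimalCentrallyLarge Q) (hR : Cfsg.IsCentrallyLarge R) :
    (Q ⊓ R) ⊔ Subgroup.centralizer (Q : Set P) = Q := by
  have hq := CL.large hQ.1
  have hr := CL.large hR
  set CQ := Subgroup.centralizer (Q : Set P) with hCQ
  set W := (Q ⊓ R) ⊔ CQ with hW
  have hWQ : W ≤ Q := sup_le inf_le_left (CL.le hQ.1)
  refine hQ.2 W hWQ (centrallyLarge_iff.mpr
    ⟨centralizerLarge_sup (centralizerLarge_inf hq hr) (centralizerLarge_centralizer hq), ?_⟩)
  rw [hW, centralizer_sup, centralizer_centralizer_eq hq, centralizer_inf_eq hq hr]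
  rintro x ⟨h1, h2⟩
  have h1' : x ∈ (CQ : Set P) * (Subgroup.centralizer (R : Set P) : Set P) :=
    (lattice hq hr).2.2.2.1 ▸ h1
  obtain ⟨a, ha, b, hb, rfl⟩ := h1'
  refine Subgroup.mul_mem _ (Subgroup.mem_sup_right ha) (Subgroup.mem_sup_left ⟨?_, CL.le hR hb⟩)
  have := Q.mul_mem (Q.inv_mem (CL.le hQ.1 ha)) h2
  simpa using this

theorem minimal_inf_center (hQ : Cfsg.IsMinimalCentrallyLarge Q) (hR : Cfsg.IsCentrallyLarge R) :
    Q ⊓ R ⊓ Subgroup.centralizer (Q : Set P) =
      Q ⊓ R ⊓ Subgroup.centralizer ((Q ⊓ R : Subgroup P) : Set P) := by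
  apply le_antisymm
  · exact inf_le_inf le_rfl (Subgroup.centralizer_le (SetLike.coe_subset_coe.mpr inf_le_left))
  · refine le_inf inf_le_left ?_
    conv_rhs => rw [← minimal_inf_sup hQ hR]
    rw [centralizer_sup, centralizer_centralizer_eq (CL.large hQ.1)]
    exact le_inf inf_le_right (inf_le_left.trans inf_le_left)

theorem minimal_card_eq (hQ : Cfsg.IsMinimalCentrallyLarge Q) (hR : Cfsg.IsMinimalCentrallyLarge R) :
    Nat.card Q = Nat.card R ∧
    Nat.card ↥(Subgroup.centralizer (Q : Set P)) = Nat.card ↥(Subgroup.centralizer (R : Set P)) := by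
  have key : ∀ {U V : Subgroup P}, Cfsg.IsMinimalCentrallyLarge U → Cfsg.IsMinimalCentrallyLarge V →
      Nat.card U * Nat.card ↥(U ⊓ V ⊓ Subgroup.centralizer ((U ⊓ V : Subgroup P) : Set P)) =
        Nat.card ↥(U ⊓ V) * Nat.card ↥(Subgroup.centralizer (U : Set P)) := by
    intro U V hU hV
    have h := card_prod_mul (U ⊓ V) (Subgroup.centralizer (U : Set P))
    rw [minimal_inf_center hU hV.1, ← coe_sup_eq_mul (centralizerLarge_inf (CL.large hU.1) (CL.large hV.1))
      (centralizerLarge_centralizer (CL.large hU.1)), minimal_inf_sup hU hV.1] at h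
    exact h
  have h1 := key hQ hR
  have h2 := key hR hQ
  rw [inf_comm R Q] at h2
  set k := Nat.card ↥(Q ⊓ R ⊓ Subgroup.centralizer ((Q ⊓ R : Subgroup P) : Set P))
  set d := Nat.card ↥(Q ⊓ R)
  set q := Nat.card Q
  set r := Nat.card R
  set zq := Nat.card ↥(Subgroup.centralizer (Q : Set P))
  set zr := Nat.card ↥(Subgroup.centralizer (R : Set P))
  have h3 : q * zq = r * zr := (CL.large hQ.1).trans (CL.large hR.1).symm
  have hk : 0 < k := Nat.card_pos
  have hd : 0 < d := Nat.card_pos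
  have h4 : d * zq * zq = d * zr * zr := by
    rw [← h1, ← h2]
    calc q * k * zq = q * zq * k := by ring
      _ = r * zr * k := by rw [h3]
      _ = _ := by ring
  have h5 : zq = zr := Nat.mul_self_inj.mp (Nat.eq_of_mul_eq_mul_left hd (by rw [← mul_assoc, ← mul_assoc]; exact h4))
  refine ⟨?_, h5⟩
  rw [h5] at h3
  exact Nat.eq_of_mul_eq_mul_right Nat.card_pos h3

end Cfsg.Agent.CentrallyLarge
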